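import Cfsg.Agent.Lib.Spor.MonoCover.Defs
import Cfsg.Prelude.Def_KGroupFacts
import Mathlib.GroupTheory.QuotientGroup.Basic
import Mathlib.GroupTheory.Subgroup.Simple
import Mathlib.GroupTheory.Abelianization.Defs
import Mathlib.Algebra.Field.ZMod
import Mathlib.GroupTheory.OrderOfElement
import Mathlib.GroupTheory.SpecificGroups.Cyclic

/-!
The cover made from checked tables: permutations of the pairs of a point and a residue.
-/

set_option autoImplicit false

namespace CfsgLib.Spor.MonoCover

open CfsgLib.Spor.TC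

/-- The tables pass the tests. -/
structure Dat.Checked (C : Dat) : Prop where
  points : C.RangeOK 0 C.n
  shape : C.shapeOK = true

variable {C : Dat} (h : C.Checked)

local notation "Pt" => (Fin C.n × ZMod C.M)

theorem Dat.Checked.M_bounds (h : C.Checked) : 1 < C.M ∧ C.M ≤ 4 := by
  have := h.shape
  simp only [Dat.shapeOK, Bool.and_eq_true] at this
  have h2 := Nat.le_of_ble_eq_true this.1.1.2
  exact ⟨Nat.le_of_ble_eq_true this.1.1.1, by omega⟩

include h in
theorem Dat.Checked.point (c : Fin C.n) : C.invAt c = true ∧ C.relsAt (4 * c) C.relShift = true := by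
  have h1 := h.points c (Nat.zero_le _) c.2
  rw [Dat.pointOK, strict_eq] at h1
  simp only [Bool.and_eq_true] at h1
  exact h1

include h in
theorem Dat.Checked.letter {x : ℕ} (hx : x < C.k) (c : Fin C.n) :
    C.T x c < C.n ∧ C.T x (C.T x c) = c ∧ (C.lam x c : ZMod C.M) + (C.lam x (C.T x c) : ZMod C.M) = 0 := by
  have h1 := (h.point c).1
  rw [Dat.invAt, allFromS_eq] at h1
  have h2 := allFrom_spec h1 x (Nat.zero_le _) (by omega)
  rw [strict_eq] at h2
  simp only [Bool.and_eq_true] at h2
  refine ⟨Nat.le_of_ble_eq_true h2.1.1, Nat.eq_of_beq_eq_true h2.1.2, ?_⟩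
  rw [← Nat.cast_add, ← ZMod.natCast_mod]
  exact (congrArg Nat.cast (Nat.eq_of_beq_eq_true h2.2)).trans Nat.cast_zero

/-- The lift of a letter. -/
noncomputable def lift (x : ℕ) : Equiv.Perm Pt :=
  if hx : x < C.k then
    Function.Involutive.toPerm
      (fun p => (⟨C.T x p.1, (h.letter hx p.1).1⟩, p.2 + (C.lam x p.1 : ZMod C.M))) fun p => by
      refine Prod.ext (Fin.ext (h.letter hx p.1).2.1) ?_
      show p.2 + _ + _ = p.2
      rw [add_assoc, (h.letter hx p.1).2.2, add_zero]
  else 1

theorem lift_apply {x : ℕ} (hx : x < C.k) (p : Pt) :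
    lift h x p = (⟨C.T x p.1, (h.letter hx p.1).1⟩, p.2 + (C.lam x p.1 : ZMod C.M)) := by
  rw [lift, dif_pos hx]
  rfl

theorem lift_sq (x : ℕ) : lift h x * lift h x = 1 := by
  by_cases hx : x < C.k
  · rw [lift, dif_pos hx]
    exact Equiv.ext fun p => Function.Involutive.toPerm_involutive _ p
  · rw [lift, dif_neg hx, one_mul]

/-- The shift of the residue. -/
def shift (C : Dat) : Equiv.Perm (Fin C.n × ZMod C.M) :=
  Equiv.prodCongr (Equiv.refl _) (Equiv.addRight (1 : ZMod C.M))

theorem shift_apply (p : Pt) : shift C p = (p.1, p.2 + 1) := rfl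

theorem shift_pow_apply (k : ℕ) (p : Pt) : (shift C ^ k) p = (p.1, p.2 + (k : ZMod C.M)) := by
  induction k with
  | zero => simp
  | succ k ih => rw [pow_succ', Equiv.Perm.mul_apply, ih, shift_apply, Nat.cast_succ, add_assoc]

theorem shift_pow_card : shift C ^ C.M = 1 := Equiv.ext fun p => by
  rw [shift_pow_apply, ZMod.natCast_self, add_zero]
  rfl

theorem shift_lift (x : ℕ) : shift C * lift h x = lift h x * shift C := by
  by_cases hx : x < C.k
  · refine Equiv.ext fun p => ?_
    rw [Equiv.Perm.mul_apply, Equiv.Perm.mul_apply, shift_apply, lift_apply h hx, lift_apply h hx, shift_apply,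
      add_right_comm]
  · rw [lift, dif_neg hx, one_mul, mul_one]

/-- The code of a pair. -/
def code (p : Pt) : ℕ := 4 * p.1.1 + p.2.val

include h in
theorem val_lt_four (s : ZMod C.M) : s.val < 4 := by
  have := h.M_bounds
  haveI : NeZero C.M := ⟨by omega⟩
  have := s.val_lt
  omega

include h in
theorem code_injective : Function.Injective (code (C := C)) := by
  intro p q e
  unfold code at e
  have h1 := val_lt_four h p.2
  have h2 := val_lt_four h q.2
  have := h.M_bounds
  haveI : NeZero C.M := ⟨by omega⟩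
  exact Prod.ext (Fin.ext (by omega)) (ZMod.val_injective _ (by omega))

theorem code_lift {x : ℕ} (hx : x < C.k) (p : Pt) : code (lift h x p) = C.step x (code p) := by
  have hs := val_lt_four h p.2
  have := h.M_bounds
  haveI : NeZero C.M := ⟨by omega⟩
  have e1 : (code p).shiftRight 2 = p.1.1 := by
    show code p >>> 2 = _
    rw [Nat.shiftRight_eq_div_pow]
    unfold code
    omega
  have e2 : Nat.land (code p) 3 = p.2.val := by
    show code p &&& 3 = _
    refine (Nat.and_two_pow_sub_one_eq_mod (code p) 2).trans ?_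
    unfold code
    omega
  rw [Dat.step, strict_eq, e1, e2, lift_apply h hx]
  show 4 * C.T x p.1 + (p.2 + (C.lam x p.1 : ZMod C.M)).val = 4 * C.T x p.1.1 + (p.2.val + C.lam x p.1.1) % C.M
  rw [ZMod.val_add, ZMod.val_natCast, Nat.add_mod_mod]

theorem code_word : ∀ w : List ℕ, (∀ a ∈ w, a < C.k) → ∀ p : Pt, code (ev (lift h) w p) = C.word w (code p) := by
  intro w
  induction w with
  | nil => intro _ p; simp [ev, Dat.word]
  | cons a w ih =>
    intro hw p
    rw [ev_cons, Equiv.Perm.mul_apply, code_lift h (hw a List.mem_cons_self),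
      ih fun y hy => hw y (List.mem_cons_of_mem _ hy)]
    exact (strict_eq _ (C.step a)).symm

theorem code_pow (w : List ℕ) (hw : ∀ a ∈ w, a < C.k) (m : ℕ) (p : Pt) :
    code ((ev (lift h) w ^ m) p) = C.pow w m (code p) := by
  induction m with
  | zero => rfl
  | succ m ih =>
    rw [pow_succ', Equiv.Perm.mul_apply, code_word h w hw, ih]
    exact (strict_eq _ (C.word w)).symm

theorem shift_word (w : List ℕ) : shift C * ev (lift h) w = ev (lift h) w * shift C := by
  induction w with
  | nil => simp [ev]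
  | cons a w ih => rw [ev_cons, ← mul_assoc, shift_lift h, mul_assoc, ih, mul_assoc]

theorem ev_rel {e : PowRel × ℕ} (he : e ∈ C.relShift) : ev (lift h) e.1.1 ^ e.1.2 = shift C ^ e.2 := by
  have hM := h.M_bounds
  haveI : NeZero C.M := ⟨by omega⟩
  have hsh := h.shape
  simp only [Dat.shapeOK, Bool.and_eq_true, List.all_eq_true] at hsh
  obtain ⟨hk', hw'⟩ := hsh.2 e he
  have hk : e.2 < C.M := Nat.le_of_ble_eq_true hk'
  have hw : ∀ a ∈ e.1.1, a < C.k := fun a ha => Nat.le_of_ble_eq_true (hw' a ha)
  have key : ∀ (rs : List (PowRel × ℕ)) (q : ℕ), C.relsAt q rs = true → ∀ r ∈ rs,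
      C.pow r.1.1 r.1.2 q = q + r.2 := by
    intro rs q
    induction rs with
    | nil => intro _ r hr; simp at hr
    | cons a rs ih =>
      intro hh r hr
      change (Nat.beq (C.pow a.1.1 a.1.2 q) (Nat.add q a.2) && C.relsAt q rs) = true at hh
      simp only [Bool.and_eq_true] at hh
      rcases List.mem_cons.1 hr with rfl | hr
      · exact Nat.eq_of_beq_eq_true hh.1
      · exact ih hh.2 r hr
  refine Equiv.ext fun p => ?_
  obtain ⟨c, s⟩ := p
  have h0 : (ev (lift h) e.1.1 ^ e.1.2) (c, 0) = (c, (e.2 : ZMod C.M)) := by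
    refine code_injective h ?_
    rw [code_pow h _ hw, show code (c, (0 : ZMod C.M)) = 4 * c.1 from by simp [code], key _ _ (h.point c).2 e he]
    show _ = 4 * c.1 + (e.2 : ZMod C.M).val
    rw [ZMod.val_natCast, Nat.mod_eq_of_lt hk]
  have hc : Commute (shift C ^ s.val) (ev (lift h) e.1.1 ^ e.1.2) :=
    Commute.pow_pow (shift_word h e.1.1) _ _
  have h1 := Equiv.congr_fun hc.eq (c, 0)
  rw [Equiv.Perm.mul_apply, Equiv.Perm.mul_apply, h0, shift_pow_apply, shift_pow_apply, zero_add,
    ZMod.natCast_zmod_val] at h1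
  rw [← h1, shift_pow_apply, add_comm]

/-- The cover. -/
noncomputable def Cover : Subgroup (Equiv.Perm Pt) := Subgroup.closure (lift h '' Set.Iio C.k)

instance cover_finite : Finite (Cover h) := by
  have := h.M_bounds
  haveI : NeZero C.M := ⟨by omega⟩
  infer_instance

/-- The lift of a letter, in the cover. -/
noncomputable def gam (x : ℕ) : Cover h :=
  if hx : x < C.k then ⟨lift h x, Subgroup.subset_closure ⟨x, hx, rfl⟩⟩ else 1

theorem gam_coe (x : ℕ) : (gam h x : Equiv.Perm Pt) = lift h x := by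
  unfold gam
  split
  · rfl
  · next hn => rw [lift, dif_neg hn]; rfl

theorem gam_sq (x : ℕ) : gam h x * gam h x = 1 :=
  Subtype.ext (by rw [Subgroup.coe_mul, gam_coe, lift_sq]; rfl)

theorem ev_gam (w : List ℕ) : ((ev (gam h) w : Cover h) : Equiv.Perm Pt) = ev (lift h) w := by
  induction w with
  | nil => rfl
  | cons a w ih => rw [ev_cons, ev_cons, Subgroup.coe_mul, gam_coe, ih]

theorem closure_gam : Subgroup.closure (gam h '' Set.Iio C.k) = ⊤ := by
  refine Subgroup.map_injective (Cover h).subtype_injective ?_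
  rw [MonoidHom.map_closure, ← MonoidHom.range_eq_map, Subgroup.range_subtype, Set.image_image]
  exact congrArg Subgroup.closure (Set.image_congr' fun x => gam_coe h x)

theorem shift_mem {e : PowRel × ℕ} (he : e ∈ C.relShift) (h1 : e.2 = 1) : shift C ∈ Cover h := by
  have hsh := h.shape
  simp only [Dat.shapeOK, Bool.and_eq_true, List.all_eq_true] at hsh
  rw [show shift C = ev (lift h) e.1.1 ^ e.1.2 from by rw [ev_rel h he, h1, pow_one]]
  refine pow_mem (ev_mem fun x hx => Subgroup.subset_closure (Set.mem_image_of_mem (lift h) ?_)) _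
  have hb : Nat.blt x C.k = true := (hsh.2 e he).2 x hx
  exact Nat.le_of_ble_eq_true hb

variable (hz : shift C ∈ Cover h)

/-- The central element. -/
noncomputable def zed : Cover h := ⟨shift C, hz⟩

theorem zed_central : zed h hz ∈ Subgroup.center (Cover h) := by
  rw [Subgroup.mem_center_iff]
  intro g
  refine Subtype.ext ?_
  have : Cover h ≤ Subgroup.centralizer {shift C} := by
    refine (Subgroup.closure_le _).2 ?_
    rintro _ ⟨x, -, rfl⟩
    exact Subgroup.mem_centralizer_singleton_iff.2 (shift_lift h x).symm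
  exact Subgroup.mem_centralizer_singleton_iff.1 (this g.2)

theorem order_zed (hp : C.M.Prime) (hn : 0 < C.n) : orderOf (zed h hz) = C.M := by
  haveI := Fact.mk hp
  refine orderOf_eq_prime (Subtype.ext shift_pow_card) fun e => ?_
  have h2 := congrArg (fun g : Cover h => (g : Equiv.Perm Pt) (⟨0, hn⟩, 0)) e
  exact one_ne_zero (α := ZMod C.M) ((zero_add (1 : ZMod C.M)).symm.trans (congrArg Prod.snd h2))

instance zed_normal : (Subgroup.zpowers (zed h hz)).Normal :=
  ⟨fun n hn g => by
    have hc : n ∈ Subgroup.center (Cover h) := Subgroup.zpowers_le.2 (zed_central h hz) hn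
    rwa [Subgroup.mem_center_iff.1 hc g, mul_inv_cancel_right]⟩

theorem sat_quot :
    Sat C.k C.rels fun x => QuotientGroup.mk' (Subgroup.zpowers (zed h hz)) (gam h x) := by
  refine ⟨fun x => ?_, fun x hx => ?_, fun r hr => ?_⟩
  · rw [← map_mul, gam_sq, map_one]
  · rw [gam, dif_neg (by omega), map_one]
  · obtain ⟨i, hi, rfl⟩ := List.mem_iff_getElem.1 hr
    have hsh := h.shape
    simp only [Dat.shapeOK, Bool.and_eq_true] at hsh
    have hl : C.shifts.length = C.rels.length := Nat.eq_of_beq_eq_true hsh.1.2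
    have he : (C.rels[i], C.shifts[i]'(hl ▸ hi)) ∈ C.relShift := by
      refine List.mem_iff_getElem.2 ⟨i, by simp [Dat.relShift, hl, hi], ?_⟩
      simp [Dat.relShift]
    show ev _ _ ^ _ = 1
    rw [show ev (fun x => QuotientGroup.mk' (Subgroup.zpowers (zed h hz)) (gam h x)) (C.rels[i]).1 =
      QuotientGroup.mk' (Subgroup.zpowers (zed h hz)) (ev (gam h) (C.rels[i]).1) from
        (map_ev _ _ _).symm, ← map_pow]
    refine (QuotientGroup.eq_one_iff _).2 ?_
    refine Subgroup.mem_zpowers_iff.2 ⟨((C.shifts[i]'(hl ▸ hi) : ℕ) : ℤ), Subtype.ext ?_⟩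
    rw [zpow_natCast, Subgroup.coe_pow, Subgroup.coe_pow, ev_gam]
    exact (ev_rel h he).symm

/-- The presented group onto the quotient of the cover. -/
noncomputable def toQuot : Pres C.k C.rels →* Cover h ⧸ Subgroup.zpowers (zed h hz) := presHom (sat_quot h hz)

theorem shift_zpow_fst (k : ℤ) : ∀ p : Pt, ((shift C ^ k) p).1 = p.1 := by
  induction k using Int.induction_on with
  | zero => intro p; rfl
  | succ i ih => intro p; rw [zpow_add_one, Equiv.Perm.mul_apply, ih, shift_apply]
  | pred i ih =>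
    intro p
    rw [zpow_sub_one, Equiv.Perm.mul_apply, ih]
    rfl

theorem toQuot_bijective [IsSimpleGroup (Pres C.k C.rels)] {x : ℕ} (hx : x < C.k) {c : ℕ} (hc : c < C.n)
    (hmove : C.T x c ≠ c) : Function.Bijective (toQuot h hz) := by
  constructor
  · refine (MonoidHom.ker_eq_bot_iff _).1
      (((MonoidHom.normal_ker (toQuot h hz)).eq_bot_or_eq_top).resolve_right fun e => hmove ?_)
    have h1 : toQuot h hz (presGen C.k C.rels x) = 1 := MonoidHom.mem_ker.1 (e ▸ Subgroup.mem_top _)
    rw [toQuot, presHom_gen] at h1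
    obtain ⟨k, hk⟩ := Subgroup.mem_zpowers_iff.1 ((QuotientGroup.eq_one_iff _).1 h1)
    have h2 : shift C ^ k = lift h x := by
      rw [← gam_coe h, ← hk, Subgroup.coe_zpow]
      rfl
    have h3 := shift_zpow_fst k (⟨c, hc⟩, 0)
    rw [h2, lift_apply h hx] at h3
    exact congrArg Fin.val h3
  · refine presHom_surjective (sat_quot h hz) ?_
    rw [show (fun x => QuotientGroup.mk' (Subgroup.zpowers (zed h hz)) (gam h x)) '' Set.Iio C.k =
      QuotientGroup.mk' (Subgroup.zpowers (zed h hz)) '' (gam h '' Set.Iio C.k) from (Set.image_image _ _ _).symm,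
      ← MonoidHom.map_closure, closure_gam, Subgroup.map_top_of_surjective _ (QuotientGroup.mk'_surjective _)]

/-- A stem extension of the presented group with kernel of prime order. -/
theorem exists_stem [IsSimpleGroup (Pres C.k C.rels)] (hp : C.M.Prime) {x : ℕ} (hx : x < C.k) {c : ℕ}
    (hc : c < C.n) (hmove : C.T x c ≠ c) {G : Type} [Group G] (e : Pres C.k C.rels ≃* G)
    (hcom : zed h hz ∈ commutator (Cover h)) :
    ∃ (Γ : Type) (_ : Group Γ) (_ : Finite Γ) (σ : Γ →* G), Cfsg.IsStemExtension σ ∧ Nat.card σ.ker = C.M := by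
  let b := (MulEquiv.ofBijective (toQuot h hz) (toQuot_bijective h hz hx hc hmove)).symm.trans e
  let σ : Cover h →* G := b.toMonoidHom.comp (QuotientGroup.mk' (Subgroup.zpowers (zed h hz)))
  have hk : σ.ker = Subgroup.zpowers (zed h hz) := by
    rw [MonoidHom.ker_comp_of_injective _ _ (MulEquiv.injective _), QuotientGroup.ker_mk']
  refine ⟨Cover h, inferInstance, inferInstance, σ, ⟨b.surjective.comp (QuotientGroup.mk'_surjective _), ?_, ?_⟩, ?_⟩
  · rw [hk]; exact Subgroup.zpowers_le.2 (zed_central h hz)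
  · rw [hk]; exact Subgroup.zpowers_le.2 hcom
  · rw [hk, Nat.card_zpowers, order_zed h hz hp (by omega)]

theorem zed_pow : zed h hz ^ C.M = 1 := Subtype.ext shift_pow_card

end CfsgLib.Spor.MonoCover
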