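import Cfsg.Agent.Lib.Spor.TC.Strict

/-!
A monomial cover given by tables: letters permuting points, and a label of each edge modulo at most four.
A point with its residue is carried as `4 * c + s`.
-/

set_option autoImplicit false

namespace CfsgLib.Spor.MonoCover

open CfsgLib.Spor.TC

/-- The tables of a cover: `k` letters on `n` points, labels modulo `M`, relators with their shifts. -/
structure Dat where
  k : ℕ
  n : ℕ
  M : ℕ
  T : ℕ → ℕ → ℕ
  lam : ℕ → ℕ → ℕ
  rels : List PowRel
  shifts : List ℕ

variable (C : Dat)

/-- A letter acting on a point carrying a residue. -/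
noncomputable def Dat.step (x q : ℕ) : ℕ :=
  strict (Nat.shiftRight q 2) fun c =>
    Nat.add (Nat.mul 4 (C.T x c)) (Nat.mod (Nat.add (Nat.land q 3) (C.lam x c)) C.M)

/-- A word acting on a point carrying a residue. -/
noncomputable def Dat.word (w : List ℕ) (q : ℕ) : ℕ :=
  List.rec (motive := fun _ => ℕ) q (fun a _ ih => strict ih (C.step a)) w

/-- A power of a word acting on a point carrying a residue. -/
noncomputable def Dat.pow (w : List ℕ) (m q : ℕ) : ℕ :=
  Nat.rec (motive := fun _ => ℕ) q (fun _ ih => strict ih (C.word w)) m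

/-- The letters are involutions at a point and their labels there cancel. -/
noncomputable def Dat.invAt (c : ℕ) : Bool :=
  allFromS (fun x => strict (C.T x c) fun d =>
    Nat.blt d C.n && Nat.beq (C.T x d) c && Nat.beq (Nat.mod (Nat.add (C.lam x c) (C.lam x d)) C.M) 0) 0 C.k

/-- Each relator shifts by the listed amount. -/
noncomputable def Dat.relsAt (q : ℕ) (rs : List (PowRel × ℕ)) : Bool :=
  List.rec (motive := fun _ => Bool) true
    (fun r _ ih => Nat.beq (C.pow r.1.1 r.1.2 q) (Nat.add q r.2) && ih) rs

/-- The relators with their shifts. -/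
def Dat.relShift : List (PowRel × ℕ) := C.rels.zip C.shifts

/-- The test at a point. -/
noncomputable def Dat.pointOK (c : ℕ) : Bool :=
  C.invAt c && strict (Nat.mul 4 c) fun q => C.relsAt q C.relShift

/-- The test on a range. -/
noncomputable def Dat.rangeTest (a b : ℕ) : Bool := allFromS C.pointOK a (Nat.sub b a)

/-- The test holds on a range. -/
def Dat.RangeOK (a b : ℕ) : Prop := ∀ c, a ≤ c → c < b → C.pointOK c = true

theorem Dat.RangeOK.of_test {a b : ℕ} (h : C.rangeTest a b = true) : C.RangeOK a b := fun c h1 h2 => by
  rw [Dat.rangeTest, allFromS_eq] at h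
  exact allFrom_spec h c h1 (show c < a + (b - a) by omega)

theorem Dat.RangeOK.append {a b c : ℕ} (h1 : C.RangeOK a b) (h2 : C.RangeOK b c) : C.RangeOK a c :=
  fun x ha hc => if h : x < b then h1 x ha h else h2 x (by omega) hc

/-- The small facts about the parameters. -/
noncomputable def Dat.shapeOK : Bool :=
  Nat.blt 1 C.M && Nat.blt C.M 5 && Nat.beq C.shifts.length C.rels.length &&
    (C.relShift.all fun e => Nat.blt e.2 C.M && e.1.1.all fun a => Nat.blt a C.k)

end CfsgLib.Spor.MonoCover
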